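import Mathlib.Algebra.IsPrimePow
import Mathlib.Tactic

/-!
# Divisors of the index of the normaliser of a Singer group in `SU₃(q)` that are `1` modulo the Singer order
-/

set_option autoImplicit false
set_option maxRecDepth 100000

namespace CfsgLib.SUThree.Singer

/-- The index of the Singer normaliser. -/
def idx (q : ℕ) : ℕ := q ^ 3 * (q + 1) ^ 2 * (q - 1) / 3

/-- The order of the Singer group without its part at three. -/
def red (q : ℕ) : ℕ := if q % 3 = 2 then (q ^ 2 - q + 1) / 3 else q ^ 2 - q + 1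

/-- A boolean search over the possible multiples. -/
def noSol (q : ℕ) : Bool :=
  (List.range (2 * q + 5)).all fun j =>
    decide (j = 0 ∨ idx q % (1 + j * red q) ≠ 0 ∨ idx q < (1 + j * red q) * (q ^ 3 + 1))

theorem check : ∀ q < 162, 3 ≤ q → q ∉ [3, 5, 6, 8, 14, 35] → noSol q = true := by decide +kernel

theorem check_eight : ∀ j < 21, 1 + j * red 8 ∣ idx 8 → (1 + j * red 8) * 513 ≤ idx 8 → j = 0 ∨ j = 5 := by
  decide +kernel

theorem dvd_three (q : ℕ) : 3 ∣ q ^ 3 * (q + 1) ^ 2 * (q - 1) := by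
  rcases (by omega : q % 3 = 0 ∨ q % 3 = 1 ∨ q % 3 = 2) with h | h | h
  · exact Dvd.dvd.mul_right (Dvd.dvd.mul_right (dvd_pow (Nat.dvd_of_mod_eq_zero h) three_ne_zero) _) _
  · exact Dvd.dvd.mul_left (by omega) _
  · exact Dvd.dvd.mul_right (Dvd.dvd.mul_left (dvd_pow (by omega) two_ne_zero) _) _

/-- The first case: the Singer order is prime to three. -/
theorem bound_one {q i j t : ℤ} (ht : 2 ≤ t) (hij : i + j ≤ i * j + 1) (hq : 2 ≤ q)
    (h : 3 * (i + j) + 4 * q + 5 = t * (q ^ 2 - q + 1)) (hp : 3 * (i * j) + t = q ^ 2 + 3 * q + 2) : q ≤ 9 := by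
  nlinarith [mul_nonneg (sub_nonneg.2 ht) (show (0 : ℤ) ≤ q ^ 2 - q + 2 by nlinarith)]

/-- The second case: the Singer order is divisible by three. -/
theorem bound_two {q i j t : ℤ} (hj : 1 ≤ j) (ht : 1 ≤ t) (hjq : j ≤ q + 2) (hq : 0 ≤ q)
    (h : 3 * (i + j) + 12 * q + 15 = t * (q ^ 2 - q + 1)) (hp : i * j + t = 3 * (q ^ 2 + 3 * q + 2)) : q ≤ 161 := by
  by_contra hc
  have hq' : 162 ≤ q := by omega
  have key : j * (t * (q ^ 2 - q + 1)) = 9 * (q ^ 2 + 3 * q + 2) - 3 * t + 3 * j ^ 2 + j * (12 * q + 15) := by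
    linear_combination (-j) * h + 3 * hp
  have h1 : (1 : ℤ) ≤ j * t := by nlinarith
  have hA : 0 ≤ q ^ 2 - 13 * q - 14 := by nlinarith
  have h2 : j * t ≤ 14 := by
    by_contra h14
    nlinarith [mul_nonneg (show (0 : ℤ) ≤ j * t - 15 by omega) hA, mul_nonneg (mul_nonneg (by omega : (0:ℤ) ≤ j)
      (sub_nonneg.2 ht)) (show (0 : ℤ) ≤ 12 * q + 15 by omega)]
  have hj14 : j ≤ 14 := le_trans (le_mul_of_one_le_right (by omega) ht) h2
  have ht14 : t ≤ 14 := le_trans (le_mul_of_one_le_left (by omega) hj) h2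
  have h9 : j * t ≤ 9 := by
    by_contra h10
    nlinarith [mul_nonneg (show (0 : ℤ) ≤ j * t - 10 by omega) hA, mul_nonneg (mul_nonneg (by omega : (0:ℤ) ≤ j)
      (sub_nonneg.2 ht)) (show (0 : ℤ) ≤ 12 * q + 15 by omega), mul_le_mul hj14 hj14 (by omega) (by omega)]
  nlinarith [mul_nonneg (show (0 : ℤ) ≤ 9 - j * t by omega) (sq_nonneg q)]

/-- The only possible index of the normaliser in a proper overgroup. -/
theorem small {q n c : ℕ} (hq : 3 ≤ q) (hnc : n * c = idx q) (hc : q ^ 3 + 1 ≤ c)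
    (hn : n ≠ 1) (hdvd : red q ∣ n - 1) (hn0 : 0 < n) :
    q ∈ [3, 5, 6, 14, 35] ∨ (q = 8 ∧ n = 96) := by
  obtain ⟨j, hj⟩ := hdvd
  have hn' : n = 1 + j * red q := by rw [mul_comm]; omega
  have hle : n * (q ^ 3 + 1) ≤ idx q := hnc ▸ Nat.mul_le_mul_left n hc
  have hX := Nat.div_mul_cancel (dvd_three q)
  rw [← idx] at hX
  have hN3 : 3 * red q = q ^ 2 - q + 1 ∧ q % 3 = 2 ∨ red q = q ^ 2 - q + 1 := by
    rcases eq_or_ne (q % 3) 2 with h | h
    · refine Or.inl ⟨?_, h⟩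
      have h3 : 3 ∣ q ^ 2 - q + 1 := by
        obtain ⟨k, rfl⟩ : ∃ k, q = 3 * k + 2 := ⟨q / 3, by omega⟩
        refine ⟨3 * k ^ 2 + 3 * k + 1, ?_⟩
        have : (3 * k + 2) ≤ (3 * k + 2) ^ 2 := Nat.le_self_pow two_ne_zero _
        zify [this]
        ring
      rw [red, if_pos h, Nat.mul_div_cancel' h3]
    · exact Or.inr (by rw [red, if_neg h])
  have hqq : q ≤ q ^ 2 := Nat.le_self_pow two_ne_zero _
  have hj0 : j ≠ 0 := fun e => hn (by rw [hn', e, zero_mul, add_zero])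
  -- `j` is small
  have hjq : j ≤ q + 2 := by
    have hb : n * (q ^ 3 + 1) * 3 ≤ q ^ 3 * (q + 1) ^ 2 * (q - 1) := hX ▸ Nat.mul_le_mul_right 3 hle
    have hR3 : q ^ 2 - q + 1 ≤ 3 * red q := by rcases hN3 with ⟨h, -⟩ | h <;> omega
    · by_contra hlt
      have hjj : q + 3 ≤ j := by omega
      rw [hn'] at hb
      zify [hqq] at hR3
      zify [show 1 ≤ q by omega] at hb hjj
      set Q : ℤ := (q : ℤ) with hQ
      set R : ℤ := (red q : ℤ) with hR
      have hQ3 : (3 : ℤ) ≤ Q := by rw [hQ]; exact_mod_cast hq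
      have hq3 : (0 : ℤ) ≤ Q ^ 3 + 1 := by positivity
      have hN : (0 : ℤ) ≤ Q ^ 2 - Q + 1 := by nlinarith
      have m1 : (Q + 3) * (Q ^ 2 - Q + 1) ≤ (j : ℤ) * (3 * R) :=
        mul_le_mul hjj hR3 hN (by positivity)
      have m2 := mul_le_mul_of_nonneg_right m1 hq3
      have m3 : (Q + 1) ^ 2 * (Q - 1) < (Q + 3) * (Q ^ 2 - Q + 1) := by nlinarith
      have m4 := mul_le_mul_of_nonneg_right m3.le hq3
      have m5 : 0 ≤ (Q + 1) ^ 2 * (Q - 1) := mul_nonneg (sq_nonneg _) (by omega)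
      nlinarith
  rcases lt_or_ge q 162 with hsmall | hbig
  · rcases eq_or_ne q 8 with rfl | h8
    · right
      refine ⟨rfl, ?_⟩
      have h5 := check_eight j (by omega) (hn' ▸ hnc ▸ Dvd.intro _ rfl) (hn' ▸ (by simpa using hle))
      rw [hn', h5.resolve_left hj0]
      rfl
    · by_cases hmem : q ∈ [3, 5, 6, 8, 14, 35]
      · refine Or.inl ?_
        simp only [List.mem_cons, List.not_mem_nil, or_false] at hmem ⊢
        omega
      · exfalso
        have h := check q hsmall hq hmem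
        rw [noSol, List.all_eq_true] at h
        have h' := h j (List.mem_range.2 (by omega))
        rw [decide_eq_true_eq, ← hn', ← hnc, Nat.mul_mod_right] at h'
        rcases h' with h' | h' | h'
        · exact hj0 h'
        · exact h' rfl
        · exact absurd (hnc ▸ hle) (by omega)
  exfalso
  -- the cofactor
  have hY : (idx q : ℤ) * 3 = (q : ℤ) ^ 3 * ((q : ℤ) + 1) ^ 2 * ((q : ℤ) - 1) := by
    have h := hX; zify [show 1 ≤ q by omega] at h; exact h
  set Nr : ℤ := (q : ℤ) ^ 2 - q + 1 with hNr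
  have hN1 : 12 * (q : ℤ) + 16 ≤ Nr := by
    have : (162 : ℤ) ≤ q := by exact_mod_cast hbig
    nlinarith
  rcases hN3 with ⟨h, h2⟩ | h
  · zify [hqq] at h
    set R : ℤ := (red q : ℤ) with hR
    have hR0 : 0 < R := by nlinarith
    -- the cofactor is one modulo the reduced order
    obtain ⟨i, hi⟩ : ∃ i : ℤ, (c : ℤ) = 1 + i * R := by
      refine ⟨(3 * (((q : ℤ) ^ 2 + 3 * q + 2) * R) - 4 * q - 5) - (j : ℤ) * c, ?_⟩
      have e : (n : ℤ) * c = idx q := by exact_mod_cast hnc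
      rw [hn'] at e; push_cast at e
      rw [← mul_left_inj' (three_ne_zero (α := ℤ))]
      linear_combination 3 * e + hY + (-(((q : ℤ) ^ 2 + 3 * q + 2) * ((q : ℤ) ^ 2 - q + 1)) + 4 * q + 5
        - 3 * ((q : ℤ) ^ 2 + 3 * q + 2) * R) * h
    have e : (n : ℤ) * c = idx q := by exact_mod_cast hnc
    rw [hn', hi] at e; push_cast at e
    have e2 : R * ((i : ℤ) + j + i * j * R) = R * (3 * ((q : ℤ) ^ 2 + 3 * q + 2) * R - 4 * q - 5) := by
      rw [← mul_left_inj' (three_ne_zero (α := ℤ))]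
      linear_combination 3 * e + hY + (-(((q : ℤ) ^ 2 + 3 * q + 2) * ((q : ℤ) ^ 2 - q + 1)) + 4 * q + 5
        - 3 * ((q : ℤ) ^ 2 + 3 * q + 2) * R) * h
    have e3 := mul_left_cancel₀ hR0.ne' e2
    have hi1 : 1 ≤ i := by
      have : (q : ℤ) ^ 3 + 1 ≤ c := by exact_mod_cast hc
      rw [hi] at this
      by_contra hi0
      nlinarith [pow_pos (show (0 : ℤ) < q by omega) 3]
    have ht : 1 ≤ 3 * ((q : ℤ) ^ 2 + 3 * q + 2) - i * j := by
      by_contra hn0
      nlinarith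
    have := bound_two (q := q) (i := i) (j := j) (t := 3 * ((q : ℤ) ^ 2 + 3 * q + 2) - i * j)
      (by omega) ht (by exact_mod_cast hjq) (by omega) (by linear_combination 3 * e3 +
        (3 * ((q : ℤ) ^ 2 + 3 * q + 2) - i * j) * h) (by ring)
    omega
  · zify [hqq] at h
    have e : (n : ℤ) * c = idx q := by exact_mod_cast hnc
    rw [hn'] at e; push_cast at e; rw [h, ← hNr] at e
    obtain ⟨Q, hQ⟩ : (3 : ℤ) ∣ ((q : ℤ) ^ 2 + 3 * q + 2) * Nr - 4 * q - 5 := by
      refine (IsCoprime.dvd_of_dvd_mul_left (y := Nr) ?_ ⟨(idx q : ℤ) - 1, by rw [hNr]; linear_combination -hY⟩)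
      rcases (by omega : q % 3 = 0 ∨ q % 3 = 1 ∨ q % 3 = 2) with h3 | h3 | h3
      · obtain ⟨k, hk⟩ : ∃ k, (q : ℤ) = 3 * k := ⟨(q / 3 : ℕ), by omega⟩
        exact ⟨-(3 * k ^ 2 - k), 1, by rw [hNr, hk]; ring⟩
      · obtain ⟨k, hk⟩ : ∃ k, (q : ℤ) = 3 * k + 1 := ⟨(q / 3 : ℕ), by omega⟩
        exact ⟨-(3 * k ^ 2 + k), 1, by rw [hNr, hk]; ring⟩
      · exfalso
        rw [red, if_pos h3] at h
        have hlt : (((q ^ 2 - q + 1) / 3 : ℕ) : ℤ) * 3 ≤ ((q ^ 2 - q + 1 : ℕ) : ℤ) := by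
          exact_mod_cast Nat.div_mul_le_self _ _
        push_cast [hqq] at hlt h
        nlinarith
    obtain ⟨i, hi⟩ : ∃ i : ℤ, (c : ℤ) = 1 + i * Nr := by
      refine ⟨Q - (j : ℤ) * c, ?_⟩
      rw [← mul_left_inj' (three_ne_zero (α := ℤ))]
      linear_combination 3 * e + hY + Nr * hQ
    rw [hi] at e
    have e3 : i + j + i * j * Nr = Q := by
      refine mul_left_cancel₀ (show Nr ≠ 0 by omega) ?_
      rw [← mul_left_inj' (three_ne_zero (α := ℤ))]
      linear_combination 3 * e + hY + Nr * hQ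
    have hi1 : 1 ≤ i := by
      have : (q : ℤ) ^ 3 + 1 ≤ c := by exact_mod_cast hc
      rw [hi] at this
      by_contra hi0
      nlinarith [pow_pos (show (0 : ℤ) < q by omega) 3]
    have hij : i + j ≤ i * j + 1 := by nlinarith [mul_nonneg (show (0 : ℤ) ≤ i - 1 by omega) (show (0 : ℤ) ≤ (j : ℤ) - 1 by omega)]
    have ht : 1 ≤ (q : ℤ) ^ 2 + 3 * q + 2 - 3 * (i * j) := by
      by_contra hn0
      nlinarith
    have ht2 : 2 ≤ (q : ℤ) ^ 2 + 3 * q + 2 - 3 * (i * j) := by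
      by_contra ht2
      have h1 : (q : ℤ) ^ 2 + 3 * q + 2 - 3 * (i * j) = 1 := by omega
      have key : 3 * (i + j) + 4 * q + 5 = Nr := by linear_combination 3 * e3 - hQ + Nr * h1
      rcases (by omega : q % 3 = 0 ∨ q % 3 = 1 ∨ q % 3 = 2) with h3 | h3 | h3 <;>
        obtain ⟨k, hk⟩ : ∃ k, (q : ℤ) = 3 * k + ((q % 3 : ℕ) : ℤ) := ⟨(q / 3 : ℕ), by omega⟩ <;>
        rw [h3] at hk <;> push_cast at hk
      all_goals rw [hk] at h1; ring_nf at h1; omega
    have := bound_one (q := q) (i := i) (j := j) ht2 hij (by omega)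
      (by linear_combination 3 * e3 - hQ) (by ring)
    omega

end CfsgLib.SUThree.Singer
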