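import Cfsg.Agent.SUThree.Semiregular
import Cfsg.Agent.MinDegree.UThreeMain

/-!
# No subgroup of order 16416 of `SU₃(8)` contains the centre
-/

set_option autoImplicit false

namespace CfsgLib.SUThree.Singer

open CfsgLib.RepBounds.Unit CfsgLib.MinDegree.UThreeIndex

variable {F : Type*} [Field F] [Fintype F] (C : ConjField F)

theorem false_of_borel (hq : C.q = 8) {P H : Subgroup (GG C)} (hP : IsPGroup 2 P) (h32 : Nat.card P = 32)
    (hPH : P ≤ H) (hPB : P ≤ borel C) (hz : Subgroup.center (GG C) ≤ H)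
    (h3 : 3 ∣ Nat.card (Subgroup.center (GG C))) (hcard : Nat.card H = 16416) : False := by
  have hzB : Subgroup.center (GG C) ≤ borel C := fun z hz' =>
    center_le_borel C fun g => (Subgroup.mem_center_iff.1 hz' g).symm
  have hrad : ∀ s ∈ P, s ∈ radU C := fun s hs => by
    obtain ⟨k, hk⟩ := hP ⟨s, hs⟩
    rw [mem_radU_iff C (hPB hs)]
    set u := eigHom C ⟨s, hPB hs⟩ with hu
    have e2 : u ^ 2 ^ k = 1 := by
      have hk' : s ^ 2 ^ k = 1 := by simpa using congrArg Subtype.val hk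
      rw [hu, ← map_pow, show (⟨s, hPB hs⟩ : borel C) ^ 2 ^ k = 1 from Subtype.ext (by simpa using hk'), map_one]
    have e63 : u ^ 63 = 1 := by
      have hc : Nat.card Fˣ = 63 := by rw [Nat.card_units, Nat.card_eq_fintype_card, C.card, hq]; norm_num
      rw [← hc, pow_card_eq_one']
    have hg : Nat.gcd (2 ^ k) 63 = 1 := Nat.Coprime.pow_left k (by norm_num)
    have e1 := pow_gcd_eq_one.2 ⟨e2, e63⟩
    rw [hg, pow_one] at e1
    exact congrArg Units.val e1
  have hB : H ⊓ borel C ≤ H := inf_le_left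
  have hsemi := card_dvd_relIndex_sub_one (le_inf hPH hPB) hB fun s hs hs1 m hm hms => by
    refine ⟨hm, (smul_base_iff C).1 (radU_fix C (hrad s hs) hs1 ?_)⟩
    have := (smul_base_iff C).2 hms.2
    rwa [mul_smul, mul_smul, inv_smul_eq_iff] at this
  rw [h32] at hsemi
  have hmul : (H ⊓ borel C).relIndex H * Nat.card ↥(H ⊓ borel C) = 16416 := by
    rw [← hcard, mul_comm, ← Nat.card_congr (Subgroup.subgroupOfEquivOfLe hB).toEquiv]
    exact Subgroup.card_mul_index _
  have h96 : 96 ∣ Nat.card ↥(H ⊓ borel C) :=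
    Nat.Coprime.mul_dvd_of_dvd_of_dvd (m := 32) (n := 3) (by norm_num)
      (h32 ▸ Subgroup.card_dvd_of_le (le_inf hPH hPB)) (h3.trans (Subgroup.card_dvd_of_le (le_inf hz hzB)))
  have hk : (H ⊓ borel C).relIndex H ∣ 171 := by
    obtain ⟨b, hb⟩ := h96
    rw [hb] at hmul
    exact ⟨b, by linarith⟩
  have hk1 : (H ⊓ borel C).relIndex H = 1 := by
    have hle := Nat.le_of_dvd (by norm_num) hk
    have : ∀ k ≤ 171, k ∣ 171 → 32 ∣ k - 1 → k ≠ 0 → k = 1 := by decide +kernel
    exact this _ hle hk hsemi fun e => by simp [e] at hmul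
  have hle : H ≤ borel C := (Subgroup.relIndex_eq_one.1 hk1).trans inf_le_right
  have hd := Subgroup.card_dvd_of_le hle
  rw [card_borel, hcard, hq] at hd
  norm_num at hd

/-- No subgroup of order `16416` contains the centre. -/
theorem false_of_card (hq : C.q = 8) {H : Subgroup (GG C)} (hz : Subgroup.center (GG C) ≤ H)
    (h3 : 3 ∣ Nat.card (Subgroup.center (GG C))) (hcard : Nat.card H = 16416) : False := by
  haveI : Fact (Nat.Prime 2) := ⟨Nat.prime_two⟩
  obtain ⟨P0, hP0⟩ := Sylow.exists_subgroup_card_pow_prime 2 (n := 5) (G := H) (by rw [hcard]; norm_num)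
  set P := P0.map H.subtype
  have hcP : Nat.card P = 32 := by
    rw [← Nat.card_congr (P0.equivMapOfInjective _ H.subtype_injective).toEquiv, hP0]; norm_num
  have hP : IsPGroup 2 P := IsPGroup.of_card (n := 5) (by rw [hcP]; norm_num)
  obtain ⟨y, hy⟩ := hP.nonempty_fixed_point_of_prime_not_dvd_card (Pt C) (by rw [card_Pt, hq]; norm_num)
  obtain ⟨g, rfl⟩ := QuotientGroup.mk_surjective y
  set f := (MulAut.conj g⁻¹).toMonoidHom
  refine false_of_borel C hq (P := P.map f) (H := H.map f) (hP.map f) ?_ (Subgroup.map_mono ?_) ?_ ?_ h3 ?_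
  · rw [← Nat.card_congr (P.equivMapOfInjective f (MulEquiv.injective _)).toEquiv, hcP]
  · rintro _ ⟨x, -, rfl⟩
    exact x.2
  · rintro _ ⟨x, hx, rfl⟩
    have h1 : x • (QuotientGroup.mk g : Pt C) = QuotientGroup.mk g := hy ⟨x, hx⟩
    rw [← smul_base_iff]
    show (g⁻¹ * x * g⁻¹⁻¹) • base C = base C
    rw [inv_inv, mul_smul, mul_smul, inv_smul_eq_iff, show g • base C = (QuotientGroup.mk g : Pt C) by
      rw [MulAction.Quotient.smul_mk, smul_eq_mul, mul_one]]
    exact h1
  · refine fun z hz' => ⟨z, hz hz', ?_⟩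
    show g⁻¹ * z * g⁻¹⁻¹ = z
    rw [inv_inv, mul_assoc, ← Subgroup.mem_center_iff.1 hz' g, inv_mul_cancel_left]
  · rw [← Nat.card_congr (H.equivMapOfInjective f (MulEquiv.injective _)).toEquiv, hcard]

end CfsgLib.SUThree.Singer
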