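import Cfsg.Agent.SUThree.Singer.Model
import Cfsg.Agent.SUThree.Singer.Arith
import Cfsg.Agent.SUThree.Singer.Eight
import Cfsg.Agent.SUThree.Index
import Cfsg.Agent.SLThree.Singer.Main
import Cfsg.Agent.AschbacherUnitary.ThreeFieldElement

/-!
# The normaliser of an adjoint-closed cubic field is maximal in `SU₃(q)`, `q ≠ 5`
-/

set_option autoImplicit false
set_option linter.unusedSectionVars false

namespace CfsgLib.SUThree.Singer

open Matrix Cfsg.Geo CfsgLib.MaxSub CfsgLib.SLThree.Singer CfsgLib.AschbacherUnitary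

variable {F : Type*} [Field F] [Fintype F] {q : ℕ} {σ : F ≃+* F} (h : IsConj q σ)
  (hF : Fintype.card F = q ^ 2) {L : Type*} [Field L] [Algebra F L] [Finite L] (e : L ≃ₗ[F] (Fin 3 → F))
  {τ : L →+* L} (hτ : ∀ a, mat e (τ a) = ((mat e a).map σ)ᵀ)

local notation "SU" => (Cfsg.GU 3 F q ⊓ Cfsg.Geo.specialLinear (Fin 3) F)

include h in
theorem red_facts : red q ∣ q ^ 2 - q + 1 ∧ Nat.Coprime (red q) 3 ∧ Nat.Coprime (red q) (q ^ 2 - 1) := by
  have hq := h.one_lt
  obtain ⟨r, rfl⟩ : ∃ r, q = r + 1 := ⟨q - 1, by omega⟩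
  have hN : (r + 1) ^ 2 - (r + 1) + 1 = r ^ 2 + r + 1 := by
    rw [show (r + 1) ^ 2 = r ^ 2 + r + (r + 1) by ring, Nat.add_sub_cancel]
  have hM : (r + 1) ^ 2 - 1 = r * (r + 2) := by
    rw [show (r + 1) ^ 2 = r * (r + 2) + 1 by ring, Nat.add_sub_cancel]
  have key : red (r + 1) ∣ r ^ 2 + r + 1 ∧ Nat.Coprime (red (r + 1)) 3 := by
    rw [red, hN, Nat.coprime_comm, Nat.prime_three.coprime_iff_not_dvd]
    obtain ⟨k, rfl | rfl | rfl⟩ : ∃ k, r = 3 * k ∨ r = 3 * k + 1 ∨ r = 3 * k + 2 := ⟨r / 3, by omega⟩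
    · rw [if_neg (by omega), show (3 * k) ^ 2 + 3 * k + 1 = 3 * (3 * k ^ 2 + k) + 1 by ring]
      exact ⟨dvd_rfl, by omega⟩
    · rw [if_pos (by omega), show (3 * k + 1) ^ 2 + (3 * k + 1) + 1 = 3 * (3 * (k ^ 2 + k) + 1) by ring,
        Nat.mul_div_cancel_left _ (by norm_num)]
      exact ⟨dvd_mul_left _ _, by omega⟩
    · rw [if_neg (by omega), show (3 * k + 2) ^ 2 + (3 * k + 2) + 1 = 3 * (3 * k ^ 2 + 5 * k + 2) + 1 by ring]
      exact ⟨dvd_rfl, by omega⟩
  refine ⟨hN ▸ key.1, key.2, ?_⟩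
  rw [hM]
  refine Nat.Coprime.mul_right ?_ ?_
  · exact Nat.Coprime.coprime_dvd_left key.1 (by
      rw [show r ^ 2 + r + 1 = 1 + r * (r + 1) by ring, Nat.coprime_add_mul_left_left]; exact Nat.coprime_one_left r)
  · rw [Nat.coprime_iff_gcd_eq_one]
    refine Nat.eq_one_of_dvd_coprimes key.2 (Nat.gcd_dvd_left _ _) ?_
    have h1 := (Nat.gcd_dvd_left (red (r + 1)) (r + 2)).trans key.1
    have h2 := dvd_mul_of_dvd_left (Nat.gcd_dvd_right (red (r + 1)) (r + 2)) (r + 2)
    have h3 := (Nat.gcd_dvd_right (red (r + 1)) (r + 2)).mul_left 3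
    refine (Nat.dvd_add_left ?_).1 (?_ : _ ∣ 3 + (r + 2) * (r + 2))
    · exact h2
    · rw [show 3 + (r + 2) * (r + 2) = (r ^ 2 + r + 1) + 3 * (r + 2) by ring]
      exact dvd_add h1 h3

/-- The isometries of determinant one normalising the field. -/
def InNormalizer (n : ℕ) (x : GL (Fin 3) F) : Prop :=
  x ∈ Cfsg.GU 3 F n ⊓ Cfsg.Geo.specialLinear (Fin 3) F ∧ Normalises e x

include h hF hτ in
theorem exists_coords : ∃ w, InNormalizer e q w ∧ (∀ i : ℕ, i < 3 → w ^ i ∈ torus e q → i = 0) ∧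
    ∀ x, InNormalizer e q x → ∃ i : ℕ, i < 3 ∧ ∃ a ∈ torus e q, x = w ^ i * a ∧ x ^ 3 ∈ torus e q := by
  have := Fintype.ofFinite L
  obtain ⟨w, hw, hwa⟩ := exists_frob_mem h hF e hτ
  have hwi : ∀ (i : ℕ) (a : L), ((w ^ i : GL (Fin 3) F) : Matrix (Fin 3) (Fin 3) F) * mat e a =
      mat e (a ^ (q ^ 2) ^ i) * (w ^ i : GL (Fin 3) F) := by
    intro i
    induction i with
    | zero => intro a; simp
    | succ i ih =>
      intro a
      rw [pow_succ, Units.val_mul, mul_assoc, hwa, ← mul_assoc, ih, mul_assoc, ← pow_mul, ← pow_succ']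
  obtain ⟨b, hb⟩ : ∃ b : L, ∀ z, algebraMap F L z ≠ b := by
    by_contra hn
    push Not at hn
    have h1 := Nat.card_le_card_of_surjective _ hn
    rw [natCard_L hF e, Nat.card_eq_fintype_card, hF] at h1
    exact absurd h1 (not_le.2 (Nat.pow_lt_pow_right h.one_lt (by norm_num)))
  refine ⟨w, ⟨hw, fun a => ⟨a ^ q ^ 2, ?_⟩⟩, fun i hi hi' => ?_, fun x hx => ?_⟩
  · rw [Units.mul_inv_eq_iff_eq_mul, hwa]
  · obtain ⟨-, a, ha⟩ := (mem_torus h hF e hτ).1 hi'
    have e1 := hwi i b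
    rw [← ha] at e1
    have e2 : (a : L) * b = b ^ (q ^ 2) ^ i * a := by
      refine mat_inj e ?_
      rw [map_mul, map_mul]; exact e1
    rw [mul_comm] at e2
    have e3 : b = b ^ (q ^ 2) ^ i := mul_right_cancel₀ a.ne_zero e2
    by_contra hi0
    obtain ⟨z, hz⟩ : ∃ z, algebraMap F L z = b := by
      refine mem_range_of_sg_fixed e ?_
      rw [sg_apply, hF]
      interval_cases i
      · exact absurd rfl hi0
      · rw [pow_one] at e3; exact e3.symm
      · have e4 := congrArg (fun y => y ^ q ^ 2) e3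
        rw [← pow_mul, show (q ^ 2) ^ 2 * q ^ 2 = q ^ 6 by ring, ← natCard_L hF e, Nat.card_eq_fintype_card,
          FiniteField.pow_card] at e4
        exact e4
    exact hb z hz
  · obtain ⟨hxSU, hxn⟩ := hx
    choose f hf using hxn
    have hval : ∀ a, (x : Matrix (Fin 3) (Fin 3) F) * mat e a = mat e (f a) * x := fun a => by
      rw [← hf, Units.inv_mul_cancel_right]
    let ρ : L →ₐ[F] L :=
      { toFun := f
        map_one' := mat_inj e (by rw [← hf, map_one, mul_one, Units.mul_inv])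
        map_mul' := fun a b => mat_inj e (by
          rw [map_mul, ← hf a, ← hf b, ← hf, map_mul]
          simp only [mul_assoc, Units.inv_mul_cancel_left])
        map_zero' := mat_inj e (by rw [← hf, map_zero, mul_zero, zero_mul])
        map_add' := fun a b => mat_inj e (by rw [map_add, ← hf a, ← hf b, ← hf, map_add, mul_add, add_mul])
        commutes' := fun c => mat_inj e (by
          rw [← hf, AlgHom.commutes, ← Algebra.commutes, Units.mul_inv_cancel_right]) }
    obtain ⟨i, hi⟩ := (FiniteField.bijective_frobeniusAlgEquivOfAlgebraic_pow F L).2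
      (AlgEquiv.ofBijective ρ (Finite.injective_iff_bijective.1 ρ.toRingHom.injective))
    have hfi : ∀ a, f a = a ^ (q ^ 2) ^ (i : ℕ) := fun a => by
      show ρ a = _
      rw [← AlgEquiv.ofBijective_apply (hf := Finite.injective_iff_bijective.1 ρ.toRingHom.injective) ρ, ← hi,
        AlgEquiv.coe_pow, FiniteField.coe_frobeniusAlgEquivOfAlgebraic, pow_iterate, hF]
    have hmem : ∀ y : GL (Fin 3) F, y ∈ SU → Commute (y : Matrix (Fin 3) (Fin 3) F) (mat e b) → y ∈ torus e q :=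
      fun y hy hc => (mem_torus h hF e hτ).2 ⟨hy, eq_gl_of_commute e hb hc⟩
    have hbase : (w ^ (i : ℕ))⁻¹ * x ∈ torus e q := by
      refine hmem _ (mul_mem (inv_mem (pow_mem hw _)) hxSU) ?_
      show ((w ^ (i : ℕ))⁻¹ * x : GL (Fin 3) F) * mat e b = mat e b * ((w ^ (i : ℕ))⁻¹ * x : GL (Fin 3) F)
      have e1 := hwi i b
      rw [← hfi] at e1
      rw [Units.val_mul, mul_assoc, hval, ← mul_assoc, ← mul_assoc]
      congr 1
      rw [Units.inv_mul_eq_iff_eq_mul, ← mul_assoc, e1, Units.mul_inv_cancel_right]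
    have hcube : x ^ 3 ∈ torus e q := by
      refine hmem _ (pow_mem hxSU 3) ?_
      show ((x ^ 3 : GL (Fin 3) F) : Matrix (Fin 3) (Fin 3) F) * mat e b = mat e b * (x ^ 3 : GL (Fin 3) F)
      have e3 : f (f (f b)) = b := by
        simp only [hfi, ← pow_mul, ← pow_add]
        rw [show q ^ (2 * (i : ℕ) + 2 * (i : ℕ) + 2 * (i : ℕ)) = (q ^ 6) ^ (i : ℕ) by
          rw [← pow_mul]; ring_nf, ← natCard_L hF e, Nat.card_eq_fintype_card, FiniteField.pow_card_pow]
      rw [pow_succ, pow_two, Units.val_mul, Units.val_mul, mul_assoc, hval, ← mul_assoc, mul_assoc _ (x : Matrix _ _ F)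
        (mat e (f b)), hval, ← mul_assoc, hval, e3]
      simp only [mul_assoc]
    exact ⟨i, i.2.trans_eq (finrank_eq_three e), _, hbase, by rw [mul_inv_cancel_left], hcube⟩

include h hF hτ in
theorem card_normalizer {H : Subgroup (GL (Fin 3) F)} (hH : ∀ x, x ∈ H ↔ InNormalizer e q x) :
    Nat.card H = 3 * (q ^ 2 - q + 1) := by
  obtain ⟨w, hw, hw0, hdec⟩ := exists_coords h hF e hτ
  have hT : torus e q ≤ H := fun g hg => by
    obtain ⟨hgS, a, rfl⟩ := (mem_torus h hF e hτ).1 hg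
    exact (hH _).2 ⟨hgS, normalises_gl e a⟩
  let Φ : Fin 3 × torus e q → H := fun p => ⟨w ^ (p.1 : ℕ) * p.2, mul_mem (pow_mem ((hH w).2 hw) _) (hT p.2.2)⟩
  have hΦ : Function.Bijective Φ := by
    refine ⟨?_, fun x => ?_⟩
    · rintro ⟨i, a⟩ ⟨j, b⟩ hab
      have e1 : w ^ (i : ℕ) * (a : GL (Fin 3) F) = w ^ (j : ℕ) * b := congrArg Subtype.val hab
      have key : ∀ (i j : Fin 3) (a b : torus e q), (i : ℕ) ≤ j →
          w ^ (i : ℕ) * (a : GL (Fin 3) F) = w ^ (j : ℕ) * b → i = j := by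
        intro i j a b hij e1
        have h1 : w ^ ((j : ℕ) - i) = (a : GL (Fin 3) F) * (b : GL (Fin 3) F)⁻¹ := by
          rw [eq_mul_inv_iff_mul_eq]
          refine mul_left_cancel (a := w ^ (i : ℕ)) ?_
          rw [← mul_assoc, ← pow_add, Nat.add_sub_cancel' hij, e1]
        have := hw0 _ (by omega) (h1 ▸ mul_mem a.2 (inv_mem b.2))
        exact Fin.ext (by omega)
      have hij : i = j := by
        rcases le_total (i : ℕ) j with h' | h'
        · exact key i j a b h' e1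
        · exact (key j i b a h' e1.symm).symm
      subst hij
      exact Prod.ext rfl (Subtype.ext (mul_left_cancel e1))
    · obtain ⟨i, hi, a, ha, hx, -⟩ := hdec x ((hH _).1 x.2)
      exact ⟨(⟨i, hi⟩, ⟨a, ha⟩), Subtype.ext hx.symm⟩
  rw [← Nat.card_eq_of_bijective Φ hΦ, Nat.card_prod, Nat.card_eq_fintype_card, Fintype.card_fin,
    card_torus h hF e]

include h hF hτ in
/-- An overgroup with a further element is everything. -/
theorem su_le (hq : 3 ≤ q) (h3 : q ≠ 3) (h5 : q ≠ 5) {H M : Subgroup (GL (Fin 3) F)}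
    (hH : ∀ x, x ∈ H ↔ InNormalizer e q x) (hHM : H ≤ M) (hMS : M ≤ SU) (hlt : ¬ M ≤ H) : SU ≤ M := by
  by_contra hne
  have := Fintype.ofFinite L
  obtain ⟨w, hw, hw0, hdec⟩ := exists_coords h hF e hτ
  obtain ⟨hdvd, hcop3, hcopF⟩ := red_facts h
  -- scalars
  have hz : ∀ g ∈ SU, (∃ r : F, (g : Matrix (Fin 3) (Fin 3) F) = r • 1) → g ∈ M := fun g hg ⟨r, hr⟩ => by
    refine hHM ((hH g).2 ⟨hg, fun a => ⟨a, ?_⟩⟩)
    rw [Units.mul_inv_eq_iff_eq_mul, hr, smul_one_mul, mul_smul_one]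
  obtain ⟨c, hc, hcard⟩ := card_le_of_scalars hF hq h5 hMS hz hne
  -- the semiregular group
  set S := (powMonoidHom (red q) : Lˣ →* Lˣ).ker.map (gl e) with hS
  have hST : S ≤ torus e q := by
    refine Subgroup.map_mono fun a ha => ?_
    obtain ⟨k, hk⟩ := hdvd
    have h1 : a ^ red q = 1 := MonoidHom.mem_ker.1 ha
    rw [MonoidHom.mem_ker, powMonoidHom_apply, hk, pow_mul, h1, one_pow]
  have hTH : torus e q ≤ H := fun g hg => by
    obtain ⟨hgS, a, rfl⟩ := (mem_torus h hF e hτ).1 hg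
    exact (hH _).2 ⟨hgS, normalises_gl e a⟩
  have hsemi := card_dvd_relIndex_sub_one (hST.trans hTH) hHM fun s hs hs1 m hm hms => by
    obtain ⟨a, ha, rfl⟩ := hs
    obtain ⟨-, -, -, -, -, hcube⟩ := hdec _ ((hH _).1 hms)
    obtain ⟨-, b, hb⟩ := (mem_torus h hF e hτ).1 hcube
    have ha1 : (a : L) ^ red q = 1 := congrArg Units.val (MonoidHom.mem_ker.1 ha)
    have hnF : ∀ z, algebraMap F L z ≠ (a : L) ^ 3 := fun z hza => hs1 (by
      have hz0 : z ≠ 0 := fun e0 => a.ne_zero (pow_eq_zero_iff three_ne_zero |>.1 (by rw [← hza, e0, map_zero]))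
      have e1 : ((a : L) ^ 3) ^ (q ^ 2 - 1) = 1 := by
        rw [← hza, ← map_pow, ← hF, FiniteField.pow_card_sub_one_eq_one z hz0, map_one]
      have e2 : ((a : L) ^ 3) ^ red q = 1 := by rw [← pow_mul, mul_comm, pow_mul, ha1, one_pow]
      have e3 := pow_gcd_eq_one.2 ⟨e2, e1⟩
      rw [hcopF.gcd_eq_one, pow_one] at e3
      have e4 := pow_gcd_eq_one.2 ⟨ha1, e3⟩
      rw [hcop3.gcd_eq_one, pow_one] at e4
      rw [show a = 1 from Units.ext e4, map_one])
    rw [show (m⁻¹ * gl e a * m) ^ 3 = m⁻¹ * gl e a ^ 3 * m by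
      simp only [pow_succ, pow_zero, one_mul]; group, ← map_pow] at hb
    have hbn : ∀ z, algebraMap F L z ≠ (b : L) := fun z hzb => hnF z (mat_inj e (by
      have hb' := congrArg (fun x : GL (Fin 3) F => m * x * m⁻¹) hb
      simp only [mul_assoc, mul_inv_cancel_left, mul_inv_cancel, mul_one] at hb'
      have hb'' := congrArg Units.val hb'
      rw [Units.val_mul, Units.val_mul, show ((gl e b : GL (Fin 3) F) : Matrix (Fin 3) (Fin 3) F) = mat e b from rfl,
        ← hzb, AlgHom.commutes, Algebra.commutes, ← mul_assoc, Units.mul_inv, one_mul] at hb''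
      rw [AlgHom.commutes, hb'']
      rfl))
    let Sm : Subalgebra F L :=
      { carrier := {x | ∃ y, (m : Matrix (Fin 3) (Fin 3) F) * mat e x * ((m⁻¹ : GL (Fin 3) F) :
          Matrix (Fin 3) (Fin 3) F) = mat e y}
        mul_mem' := by
          rintro x y ⟨x', hx'⟩ ⟨y', hy'⟩
          refine ⟨x' * y', ?_⟩
          rw [map_mul, map_mul, ← hx', ← hy']
          simp only [mul_assoc, Units.inv_mul_cancel_left]
        add_mem' := by
          rintro x y ⟨x', hx'⟩ ⟨y', hy'⟩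
          exact ⟨x' + y', by rw [map_add, map_add, ← hx', ← hy', mul_add, add_mul]⟩
        algebraMap_mem' := fun r => ⟨algebraMap F L r, by
          rw [AlgHom.commutes, ← Algebra.commutes, Units.mul_inv_cancel_right]⟩ }
    refine (hH m).2 ⟨hMS hm, fun x => mem_subalgebra e (S := Sm) (d := (b : L)) ⟨(a : L) ^ 3, ?_⟩ hbn x⟩
    show (m : Matrix (Fin 3) (Fin 3) F) * (gl e b : GL (Fin 3) F) * _ = _
    rw [hb, ← Units.val_mul, ← Units.val_mul, show m * (m⁻¹ * gl e (a ^ 3) * m) * m⁻¹ = gl e (a ^ 3) by group,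
      ← Units.val_pow_eq_pow_val]
    rfl
  have hcS : Nat.card S = red q := by
    rw [hS, ← Nat.card_congr (Subgroup.equivMapOfInjective _ _ (gl_injective e)).toEquiv,
      IsCyclic.card_powMonoidHom_ker, Nat.card_units, natCard_L hF e, Nat.gcd_eq_right]
    refine hdvd.trans ?_
    obtain ⟨r, hr⟩ : ∃ r, q = r + 1 := ⟨q - 1, by omega⟩
    refine ⟨r * (r + 2) * (r ^ 2 + 3 * r + 3), ?_⟩
    rw [hr, show (r + 1) ^ 6 = (r ^ 2 + r + 1) * (r * (r + 2) * (r ^ 2 + 3 * r + 3)) + 1 by ring,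
      Nat.add_sub_cancel, show (r + 1) ^ 2 = r ^ 2 + r + (r + 1) by ring, Nat.add_sub_cancel]
  rw [hcS] at hsemi
  have hn1 : H.relIndex M ≠ 1 := fun e1 => hlt (Subgroup.relIndex_eq_one.1 e1)
  have hM : Nat.card M = H.relIndex M * (3 * (q ^ 2 - q + 1)) := by
    rw [← card_normalizer h hF e hτ hH, mul_comm, ← Nat.card_congr (Subgroup.subgroupOfEquivOfLe hHM).toEquiv]
    exact (Subgroup.card_mul_index _).symm
  have hnc : H.relIndex M * c = idx q := by
    have hX := Nat.div_mul_cancel (dvd_three q)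
    rw [← idx] at hX
    rw [hM] at hcard
    have hqq : q ≤ q ^ 2 := Nat.le_self_pow two_ne_zero _
    have hsq : 1 ≤ q ^ 2 := by omega
    refine Nat.eq_of_mul_eq_mul_right (show 0 < 3 * (q ^ 2 - q + 1) by omega) ?_
    zify [hqq, hsq, show 1 ≤ q by omega] at hX hcard ⊢
    linear_combination hcard - ((q : ℤ) ^ 2 - q + 1) * hX
  have hn0 : 0 < H.relIndex M := Nat.pos_of_ne_zero fun e0 => by
    rw [e0, zero_mul] at hM; exact Nat.card_pos.ne' hM
  rcases small hq hnc hc hn1 hsemi hn0 with hm | ⟨rfl, hn⟩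
  · simp only [List.mem_cons, List.not_mem_nil, or_false] at hm
    obtain ⟨p, hpc⟩ := CharP.exists F
    obtain ⟨k, hp, hk⟩ := FiniteField.card F p
    rw [hF] at hk
    obtain ⟨j, -, hj⟩ : ∃ j ≤ (k : ℕ), q = p ^ j :=
      (Nat.dvd_prime_pow hp).mp (hk ▸ dvd_pow_self q two_ne_zero)
    have key : ∀ {a b : ℕ}, a.Prime → b.Prime → a ∣ q → b ∣ q → a = b := fun ha hb hda hdb =>
      ((Nat.prime_dvd_prime_iff_eq ha hp).1 (ha.dvd_of_dvd_pow (hj ▸ hda))).trans
        ((Nat.prime_dvd_prime_iff_eq hb hp).1 (hb.dvd_of_dvd_pow (hj ▸ hdb))).symm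
    rcases hm with rfl | rfl | rfl | rfl | rfl
    · exact h3 rfl
    · exact h5 rfl
    · exact absurd (key Nat.prime_two Nat.prime_three (by norm_num) (by norm_num)) (by norm_num)
    · exact absurd (key Nat.prime_two (show Nat.Prime 7 by norm_num) (by norm_num) (by norm_num)) (by norm_num)
    · exact absurd (key Nat.prime_five (show Nat.Prime 7 by norm_num) (by norm_num) (by norm_num)) (by norm_num)
  · rw [hn] at hM
    norm_num at hM
    obtain ⟨C, hC⟩ := CfsgLib.RepBounds.Unit.exists_conjField 8 hF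
    set es : MinDegree.UThreeIndex.GG C →* GL (Fin 3) F :=
      (suIncl (F := F) (q := C.q)).comp (MinDegree.UThreeIndex.stdEquiv C).toMonoidHom with hes
    have hes' : Function.Injective es := suIncl_injective.comp (MinDegree.UThreeIndex.stdEquiv C).injective
    have hrange : es.range = Cfsg.GU 3 F C.q ⊓ Cfsg.Geo.specialLinear (Fin 3) F := by
      rw [hes, MonoidHom.range_comp, MonoidHom.range_eq_top.2 (MinDegree.UThreeIndex.stdEquiv C).surjective,
        ← MonoidHom.range_eq_map, range_suIncl]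
    refine false_of_card C hC (H := M.comap es) (fun z hz' => ?_) ?_ ?_
    · obtain ⟨r, hr⟩ := CfsgLib.Forms4.exists_scalar_of_mem_center (q := C.q) C.card (by norm_num)
        (A := MinDegree.UThreeIndex.stdEquiv C z) (Subgroup.mem_center_iff.2 fun g => by
          obtain ⟨g, rfl⟩ := (MinDegree.UThreeIndex.stdEquiv C).surjective g
          rw [← map_mul, ← map_mul, Subgroup.mem_center_iff.1 hz' g])
      refine hz (es z) ?_ ⟨r, hr⟩
      rw [← hC, ← hrange]
      exact ⟨z, rfl⟩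
    · rw [Nat.card_congr (Subgroup.centerCongr (MinDegree.UThreeIndex.stdEquiv C)).toEquiv,
        CfsgLib.Forms4.card_center_SU C.card (by norm_num), hC]
      norm_num
    · rw [Nat.card_congr ((M.comap es).equivMapOfInjective es hes').toEquiv,
        Subgroup.map_comap_eq_self (by rw [hrange, hC]; exact hMS), hM]

end CfsgLib.SUThree.Singer

namespace CfsgLib.SUThree

open Matrix Cfsg.Geo CfsgLib.MaxSub CfsgLib.SLThree.Singer CfsgLib.AschbacherUnitary

/-- **Clause 4.** -/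
theorem isMaximalIn_singer {F : Type*} [Field F] [Fintype F] (q : ℕ) (hF : Fintype.card F = q ^ 2) (hq : 3 ≤ q)
    (h3 : q ≠ 3) (h5 : q ≠ 5) (K : Subalgebra F (Matrix (Fin 3) (Fin 3) F)) (hK : IsFieldSubalgebra 3 K)
    (hadj : IsAdjointClosedFor (Cfsg.hermForm 3 F q) K) :
    IsMaximalIn (Cfsg.GU 3 F q ⊓ specialLinear (Fin 3) F)
      (subalgebraNormalizer K ⊓ (Cfsg.GU 3 F q ⊓ specialLinear (Fin 3) F)) := by
  obtain ⟨σ, h⟩ := exists_isConj hF
  letI : Field K := (ExtField.isField_subalgebra hK).toField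
  haveI : Finite K := Subtype.finite
  let T : K →ₗ[F] (Fin 3 → F) :=
    { toFun := fun k => (k : Matrix (Fin 3) (Fin 3) F) *ᵥ Pi.single 0 1
      map_add' := fun x y => by simp only [Subalgebra.coe_add, add_mulVec]
      map_smul' := fun r x => by simp only [Subalgebra.coe_smul, smul_mulVec, RingHom.id_apply] }
  have hT : Function.Injective T := by
    rw [← LinearMap.ker_eq_bot, Submodule.eq_bot_iff]
    intro k hk
    by_contra hk0
    obtain ⟨y, -, hy⟩ := hK.inv k k.2 fun h => hk0 (Subtype.ext h)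
    have hk' : (k : Matrix (Fin 3) (Fin 3) F) *ᵥ Pi.single 0 1 = 0 := LinearMap.mem_ker.1 hk
    have := congrArg (fun u => y *ᵥ u) hk'
    simp only [mulVec_mulVec, mulVec_zero, mul_eq_one_comm.1 hy, one_mulVec] at this
    simpa using congrFun this 0
  let e : K ≃ₗ[F] (Fin 3 → F) := LinearEquiv.ofBijective T ⟨hT,
    (LinearMap.injective_iff_surjective_of_finrank_eq_finrank
      (by rw [hK.finrank_eq, Module.finrank_fin_fun])).1 hT⟩
  have hmat : ∀ k : K, mat e k = (k : Matrix (Fin 3) (Fin 3) F) := by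
    intro k
    refine Matrix.ext_of_mulVec_single fun i => ?_
    obtain ⟨x, hx⟩ := e.surjective (Pi.single i 1)
    rw [← hx, mat_mulVec]
    show (((k * x : K) : Matrix (Fin 3) (Fin 3) F)) *ᵥ Pi.single 0 1 = _
    rw [Subalgebra.coe_mul, ← mulVec_mulVec]
    rfl
  let τ : K →+* K :=
    { toFun := fun k => ⟨(k.1.map σ)ᵀ, conjTranspose_mem h hadj k.2⟩
      map_one' := Subtype.ext (by simp [Matrix.map_one σ (map_zero σ) (map_one σ)])
      map_mul' := fun a b => Subtype.ext (by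
        show ((a.1 * b.1).map σ)ᵀ = (a.1.map σ)ᵀ * (b.1.map σ)ᵀ
        rw [hK.comm _ a.2 _ b.2, Matrix.map_mul, Matrix.transpose_mul])
      map_zero' := Subtype.ext (by simp [Matrix.map_zero σ (map_zero σ)])
      map_add' := fun a b => Subtype.ext (by
        show ((a.1 + b.1).map σ)ᵀ = (a.1.map σ)ᵀ + (b.1.map σ)ᵀ
        rw [Matrix.map_add σ (map_add σ), Matrix.transpose_add]) }
  have hτ : ∀ a : K, mat e (τ a) = ((mat e a).map σ)ᵀ := fun a => by rw [hmat, hmat]; rfl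
  set H := subalgebraNormalizer K ⊓ (Cfsg.GU 3 F q ⊓ specialLinear (Fin 3) F)
  have hH : ∀ x, x ∈ H ↔ Singer.InNormalizer e q x := by
    refine fun g => ⟨fun hg => ⟨hg.2, fun k => ?_⟩, fun hg => ⟨?_, hg.1⟩⟩
    · refine ⟨⟨_, (hg.1 (k : Matrix (Fin 3) (Fin 3) F)).1 k.2⟩, ?_⟩
      rw [hmat, hmat]
    · refine ExtField.mem_normalizer_of_conj_mem fun k hk => ?_
      obtain ⟨b, hb⟩ := hg.2 ⟨k, hk⟩
      rw [hmat, hmat] at hb
      rw [hb]
      exact b.2
  refine isMaximalIn_of inf_le_right ?_ fun M hHM hMS g hg hg' =>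
    Singer.su_le h hF e hτ hq h3 h5 hH hHM hMS fun hle => hg' (hle hg)
  by_contra hn
  push Not at hn
  have h1 := Nat.le_of_dvd Nat.card_pos (Subgroup.card_dvd_of_le (show _ ≤ H from hn))
  rw [card_su hF, Singer.card_normalizer h hF e hτ hH] at h1
  have hqq : q ≤ q ^ 2 := Nat.le_self_pow two_ne_zero _
  have e1 : 9 ≤ q ^ 2 := Nat.pow_le_pow_left hq 2
  have e2 : 27 ≤ q ^ 3 := Nat.pow_le_pow_left hq 3
  have e3 : q ^ 2 - q + 1 ≤ q ^ 3 + 1 := by
    have : q ^ 2 ≤ q ^ 3 := Nat.pow_le_pow_right (by omega) (by norm_num)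
    omega
  nlinarith [Nat.mul_le_mul (Nat.mul_le_mul e2 (show 8 ≤ q ^ 2 - 1 by omega)) e3]

end CfsgLib.SUThree
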