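import Cfsg.Agent.SLThree.Singer.Odd
import Cfsg.Agent.AschbacherUnitary.Basic
import Mathlib.GroupTheory.SpecificGroups.Cyclic

/-!
# An adjoint-closed cubic field and its normaliser in `SU₃(q)`

`L` has degree three over `F`, acts through `mat e`, and the conjugate transpose induces `τ` on it. Then `τ` is
the power `q³`, the determinant-one isometries in `L` form a cyclic group of order `q² - q + 1`, and they have
index three in their normaliser.
-/

set_option autoImplicit false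
set_option linter.unusedSectionVars false

namespace CfsgLib.SUThree.Singer

open Matrix CfsgLib.SLThree.Singer CfsgLib.AschbacherUnitary

variable {F : Type*} [Field F] [Fintype F] {q : ℕ} {σ : F ≃+* F} (h : IsConj q σ)
  (hF : Fintype.card F = q ^ 2) {L : Type*} [Field L] [Algebra F L] [Finite L] (e : L ≃ₗ[F] (Fin 3 → F))
  {τ : L →+* L} (hτ : ∀ a, mat e (τ a) = ((mat e a).map σ)ᵀ)

theorem mat_inj : Function.Injective (mat e) := (mat e).toRingHom.injective

theorem gl_injective : Function.Injective (gl e) := fun a b hab =>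
  Units.ext (mat_inj e (congrArg Units.val hab))

theorem conjT_mul (A B : Matrix (Fin 3) (Fin 3) F) :
    ((A * B).map σ)ᵀ = (B.map σ)ᵀ * (A.map σ)ᵀ := by
  rw [Matrix.map_mul, Matrix.transpose_mul]

include hF e in
theorem natCard_L : Nat.card L = q ^ 6 := by rw [card_L e, hF, ← pow_mul]

include h hF hτ in
theorem tau_eq_pow (x : L) : τ x = x ^ q ^ 3 := by
  have := Fintype.ofFinite L
  obtain ⟨p, hpc⟩ := CharP.exists F
  obtain ⟨k, hp, hk⟩ := FiniteField.card F p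
  haveI := Fact.mk hp
  haveI : CharP L p := charP_of_injective_algebraMap (algebraMap F L).injective p
  obtain ⟨j, -, hj⟩ : ∃ j ≤ (k : ℕ), q = p ^ j :=
    (Nat.dvd_prime_pow hp).mp (by rw [← hk, hF]; exact dvd_pow_self q two_ne_zero)
  have hfix : ∀ c : F, c ^ q ^ 4 = c := fun c => by
    rw [show q ^ 4 = Fintype.card F * Fintype.card F by rw [hF]; ring, pow_mul, FiniteField.pow_card,
      FiniteField.pow_card]
  let ρr : L →+* L := τ.comp (iterateFrobenius L p (3 * j))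
  have hρr : ∀ y, ρr y = τ (y ^ q ^ 3) := fun y => by
    show τ (iterateFrobenius L p (3 * j) y) = _
    rw [iterateFrobenius_def, hj, ← pow_mul, mul_comm 3 j]
  let ρ : L →ₐ[F] L :=
    { ρr with
      commutes' := fun c => mat_inj e (by
        show mat e (ρr (algebraMap F L c)) = _
        rw [hρr, ← map_pow, hτ, AlgHom.commutes, AlgHom.commutes, Matrix.algebraMap_eq_diagonal,
          Matrix.algebraMap_eq_diagonal, Matrix.diagonal_map (map_zero σ), Matrix.diagonal_transpose]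
        congr 1
        funext i
        show σ (c ^ q ^ 3) = c
        rw [h.eq_pow, ← pow_mul, ← pow_succ, hfix]) }
  obtain ⟨i, hi⟩ := (FiniteField.bijective_frobeniusAlgEquivOfAlgebraic_pow F L).2
    (AlgEquiv.ofBijective ρ (Finite.injective_iff_bijective.1 ρ.toRingHom.injective))
  have hρ : ∀ y, τ (y ^ q ^ 3) = y ^ (q ^ 2) ^ (i : ℕ) := fun y => by
    rw [← hρr y, show ρr y = ρ y from rfl, ← AlgEquiv.ofBijective_apply (hf := Finite.injective_iff_bijective.1 ρ.toRingHom.injective) ρ, ← hi,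
      AlgEquiv.coe_pow, FiniteField.coe_frobeniusAlgEquivOfAlgebraic, pow_iterate, hF]
  have hττ : ∀ y, τ (τ y) = y := fun y => mat_inj e (by
    rw [hτ, hτ]; ext a b; simp [h.involutive])
  have h6 : ∀ y : L, y ^ q ^ 6 = y := fun y => by
    rw [← natCard_L hF e, Nat.card_eq_fintype_card, FiniteField.pow_card]
  have h2 : ∀ y : L, y ^ ((q ^ 2) ^ (i : ℕ) * (q ^ 2) ^ (i : ℕ)) = y := fun y => by
    rw [pow_mul, ← hρ y, ← hρ, ← map_pow, hττ, ← pow_mul, ← pow_add, h6]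
  have hi0 : ∀ y : L, y ^ (q ^ 2) ^ (i : ℕ) = y := fun y => by
    have hi3 : (i : ℕ) < 3 := by
      exact i.2.trans_eq (finrank_eq_three e)
    interval_cases hiv : (i : ℕ)
    · rw [pow_zero, pow_one]
    · have := congrArg (· ^ (q ^ 2)) (h2 y)
      replace this : (y ^ ((q ^ 2) ^ (_ : ℕ) * (q ^ 2) ^ (_ : ℕ))) ^ _ = y ^ _ := this
      rw [← pow_mul] at this
      rw [show (q ^ 2) ^ 1 * (q ^ 2) ^ 1 * q ^ 2 = q ^ 6 by ring, h6] at this
      rw [pow_one]; exact this.symm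
    · have := congrArg (· ^ (q ^ 4)) (h2 y)
      replace this : (y ^ ((q ^ 2) ^ (_ : ℕ) * (q ^ 2) ^ (_ : ℕ))) ^ _ = y ^ _ := this
      rw [← pow_mul] at this
      rw [show (q ^ 2) ^ 2 * (q ^ 2) ^ 2 * q ^ 4 = q ^ 6 * q ^ 6 by ring, pow_mul, h6, h6] at this
      rw [show (q ^ 2) ^ 2 = q ^ 4 by ring]; exact this.symm
  conv_lhs => rw [← h6 x, show q ^ 6 = q ^ 3 * q ^ 3 by ring, pow_mul]
  rw [hρ, hi0]

include h hF hτ in
theorem gl_mem_GU {a : Lˣ} : gl e a ∈ Cfsg.GU 3 F q ↔ (a : L) ^ (q ^ 3 + 1) = 1 := by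
  rw [h.mem_GU_iff, pow_succ, ← tau_eq_pow h hF e hτ]
  constructor
  · intro hu
    refine mat_inj e ?_
    rw [map_mul, map_one, hτ]
    have := congrArg (fun X => X.map σ) hu
    simp only [Matrix.map_mul, Matrix.map_one σ (map_zero σ) (map_one σ), Matrix.transpose_map] at this
    rwa [show ((Aschbacher.mat (gl e a)).map σ).map σ = Aschbacher.mat (gl e a) from
      Matrix.ext fun i j => h.involutive _] at this
  · intro hu
    have := congrArg (fun x => ((mat e x).map σ)) hu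
    simp only [map_mul, map_one, hτ, Matrix.map_mul, Matrix.map_one σ (map_zero σ) (map_one σ),
      Matrix.transpose_map] at this
    rwa [show ((mat e (a : L)).map σ).map σ = mat e (a : L) from Matrix.ext fun i j => h.involutive _] at this

include hF e in
theorem norm_pow_eq (a : L) : algebraMap F L (Algebra.norm F a) = a ^ (q ^ 4 + q ^ 2 + 1) := by
  rw [norm_eq e, sg_apply, sg_apply, hF, ← pow_mul, ← pow_succ', ← pow_add]
  ring_nf

include h hF hτ in
theorem gl_mem_SU {a : Lˣ} : gl e a ∈ Cfsg.GU 3 F q ⊓ Cfsg.Geo.specialLinear (Fin 3) F ↔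
    (a : L) ^ (q ^ 2 - q + 1) = 1 := by
  have hq := h.one_lt
  have hdet : gl e a ∈ Cfsg.Geo.specialLinear (Fin 3) F ↔ (a : L) ^ (q ^ 4 + q ^ 2 + 1) = 1 := by
    rw [Cfsg.Geo.specialLinear, MonoidHom.mem_ker, Units.ext_iff, Matrix.GeneralLinearGroup.val_det_apply,
      Units.val_one, ← norm_pow_eq hF e, ← map_one (algebraMap F L), (algebraMap F L).injective.eq_iff,
      ← det_mat e]
    rfl
  rw [Subgroup.mem_inf, gl_mem_GU h hF e hτ, hdet]
  obtain ⟨r, rfl⟩ : ∃ r, q = r + 1 := ⟨q - 1, by omega⟩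
  have hN : (r + 1) ^ 2 - (r + 1) + 1 = r ^ 2 + r + 1 := by
    have : (r + 1) ^ 2 = r ^ 2 + r + (r + 1) := by ring
    rw [this, Nat.add_sub_cancel]
  rw [hN]
  refine ⟨fun ⟨h1, h2⟩ => ?_, fun h1 => ⟨?_, ?_⟩⟩
  · have hg : ((r + 1) ^ 3 + 1).gcd ((r + 1) ^ 4 + (r + 1) ^ 2 + 1) = r ^ 2 + r + 1 := by
      rw [show (r + 1) ^ 3 + 1 = (r ^ 2 + r + 1) * (r + 2) by ring,
        show (r + 1) ^ 4 + (r + 1) ^ 2 + 1 = (r ^ 2 + r + 1) * ((r + 1) * (r + 2) + 1) by ring,
        Nat.gcd_mul_left, Nat.gcd_mul_right_add_right, Nat.gcd_one_right, mul_one]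
    rw [← hg]
    exact pow_gcd_eq_one.2 ⟨h1, h2⟩
  · rw [show (r + 1) ^ 3 + 1 = (r ^ 2 + r + 1) * (r + 2) by ring, pow_mul, h1, one_pow]
  · rw [show (r + 1) ^ 4 + (r + 1) ^ 2 + 1 = (r ^ 2 + r + 1) * ((r + 1) * (r + 2) + 1) by ring, pow_mul,
      h1, one_pow]

/-- The determinant-one isometries in the field. -/
noncomputable def torus (q : ℕ) : Subgroup (GL (Fin 3) F) :=
  (powMonoidHom (q ^ 2 - q + 1) : Lˣ →* Lˣ).ker.map (gl e)

include h hF hτ in
theorem mem_torus {g : GL (Fin 3) F} :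
    g ∈ torus e q ↔ g ∈ Cfsg.GU 3 F q ⊓ Cfsg.Geo.specialLinear (Fin 3) F ∧ ∃ a, gl e a = g := by
  constructor
  · rintro ⟨a, ha, rfl⟩
    refine ⟨(gl_mem_SU h hF e hτ).2 ?_, a, rfl⟩
    exact congrArg Units.val (MonoidHom.mem_ker.1 ha)
  · rintro ⟨hg, a, rfl⟩
    exact ⟨a, MonoidHom.mem_ker.2 (Units.ext ((gl_mem_SU h hF e hτ).1 hg)), rfl⟩

include h hF in
theorem card_torus : Nat.card (torus e q) = q ^ 2 - q + 1 := by
  rw [torus, ← Nat.card_congr (Subgroup.equivMapOfInjective _ _ (gl_injective e)).toEquiv,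
    IsCyclic.card_powMonoidHom_ker, Nat.card_units, natCard_L hF e, Nat.gcd_eq_right]
  have hq := h.one_lt
  obtain ⟨r, rfl⟩ : ∃ r, q = r + 1 := ⟨q - 1, by omega⟩
  refine ⟨r * (r + 2) * (r ^ 2 + 3 * r + 3), ?_⟩
  have h1 : (r + 1) ^ 2 = r ^ 2 + r + (r + 1) := by ring
  have h2 : (r + 1) ^ 6 = (r ^ 2 + r + 1) * (r * (r + 2) * (r ^ 2 + 3 * r + 3)) + 1 := by ring
  rw [h2, Nat.add_sub_cancel, h1, Nat.add_sub_cancel]

theorem eq_gl_of_commute {b : L} (hb : ∀ z, algebraMap F L z ≠ b) {g : GL (Fin 3) F}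
    (hg : Commute (g : Matrix (Fin 3) (Fin 3) F) (mat e b)) : ∃ a, gl e a = g := by
  obtain ⟨u, hu⟩ := exists_of_commute e hb hg
  refine ⟨Units.mk0 u fun h0 => g.ne_zero ?_, Units.ext hu⟩
  rw [← hu, h0, map_zero]

include h hF hτ in
theorem exists_frob_mem : ∃ w ∈ Cfsg.GU 3 F q ⊓ Cfsg.Geo.specialLinear (Fin 3) F,
    ∀ a : L, (w : Matrix (Fin 3) (Fin 3) F) * mat e a = mat e (a ^ q ^ 2) * w := by
  have := Fintype.ofFinite L
  set P := (frob e : Matrix (Fin 3) (Fin 3) F) with hP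
  have hPa : ∀ a : L, P * mat e a = mat e (a ^ q ^ 2) * P := fun a => by
    refine Matrix.ext_of_mulVec_single fun i => ?_
    obtain ⟨x, hx⟩ := e.surjective (Pi.single i 1)
    rw [← hx, ← mulVec_mulVec, ← mulVec_mulVec, mat_mulVec, hP, frob_mulVec, frob_mulVec, mat_mulVec, map_mul,
      sg_apply, sg_apply, hF]
  have hPdet : P.det = 1 := by
    have := frob_mem_specialLinear e
    rw [Cfsg.Geo.specialLinear, MonoidHom.mem_ker, Units.ext_iff] at this
    simpa using this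
  set S := (P.map σ)ᵀ * P with hS
  have hcomm : ∀ a : L, Commute S (mat e a) := fun a => by
    obtain ⟨b, rfl⟩ : ∃ b, τ b = a := ⟨τ a, mat_inj e (by rw [hτ, hτ]; ext i j; simp [h.involutive])⟩
    have h2 := congrArg (fun X => (X.map σ)ᵀ) (hPa b)
    simp only [conjT_mul, ← hτ] at h2
    show S * mat e (τ b) = mat e (τ b) * S
    rw [hS, mul_assoc, hPa, ← map_pow τ, ← mul_assoc, ← mul_assoc, h2]
  obtain ⟨b, hb⟩ : ∃ b : L, ∀ z, algebraMap F L z ≠ b := by
    by_contra hn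
    push Not at hn
    have h1 := Nat.card_le_card_of_surjective _ hn
    rw [natCard_L hF e, Nat.card_eq_fintype_card, hF] at h1
    exact absurd h1 (not_le.2 (Nat.pow_lt_pow_right h.one_lt (by norm_num)))
  obtain ⟨s, hs⟩ := exists_of_commute e hb (hcomm b)
  have hdetS : S.det = 1 := by
    rw [hS, Matrix.det_mul, Matrix.det_transpose, hPdet, mul_one]
    exact (RingEquiv.map_det σ P).symm.trans (by rw [hPdet, map_one])
  have hs0 : s ≠ 0 := fun h0 => by
    rw [← hs, h0, map_zero, Matrix.det_zero] at hdetS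
    exact zero_ne_one hdetS
  have hsN : s ^ (q ^ 4 + q ^ 2 + 1) = 1 := by
    rw [← norm_pow_eq hF e, ← det_mat e, hs, hdetS, map_one]
  have hsτ : s ^ q ^ 3 = s := by
    rw [← tau_eq_pow h hF e hτ]
    refine mat_inj e ?_
    rw [hτ, hs, hS, conjT_mul, Matrix.transpose_map, Matrix.transpose_transpose,
      show ((P.map σ).map σ) = P from Matrix.ext fun i j => h.involutive _]
  obtain ⟨r, hr⟩ : ∃ r, q = r + 1 := ⟨q - 1, by have := h.one_lt; omega⟩
  have hs1 : s ^ (q ^ 2 + q + 1) = 1 := by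
    have e1 : s ^ (q ^ 3 - 1) = 1 := by
      refine mul_right_cancel₀ hs0 ?_
      rw [one_mul, ← pow_succ, Nat.sub_add_cancel (Nat.one_le_pow _ _ (by omega)), hsτ]
    have hg : (q ^ 3 - 1).gcd (q ^ 4 + q ^ 2 + 1) = q ^ 2 + q + 1 := by
      have e1 : q ^ 3 - 1 = (q ^ 2 + q + 1) * r := by
        rw [hr, show (r + 1) ^ 3 = ((r + 1) ^ 2 + (r + 1) + 1) * r + 1 by ring, Nat.add_sub_cancel]
      rw [e1, show q ^ 4 + q ^ 2 + 1 = (q ^ 2 + q + 1) * (1 + r * (r + 1)) by rw [hr]; ring,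
        Nat.gcd_mul_left, Nat.gcd_add_mul_left_right, Nat.gcd_one_right, mul_one]
    rw [← hg]
    exact pow_gcd_eq_one.2 ⟨e1, hsN⟩
  obtain ⟨k, hk⟩ : ∃ k, 2 * k = q ^ 2 + q + 2 := by
    obtain ⟨t, ht⟩ := Nat.even_mul_succ_self q
    exact ⟨t + 1, by rw [show q ^ 2 + q = q * (q + 1) by ring, ht]; ring⟩
  set t := (s⁻¹) ^ k with htdef
  have ht0 : t ≠ 0 := pow_ne_zero _ (inv_ne_zero hs0)
  have ht1 : t ^ (q ^ 3 + 1) * s = 1 := by
    have hinv : s⁻¹ ^ (q ^ 2 + q + 1) = 1 := by rw [inv_pow, hs1, inv_one]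
    rw [htdef, ← pow_mul, show k * (q ^ 3 + 1) = 1 + (q ^ 2 + q + 1) * (k * r + 1) by
      rw [hr] at hk ⊢; linear_combination hk, pow_add, pow_one, pow_mul, hinv, one_pow, mul_one,
      inv_mul_cancel₀ hs0]
  have ht2 : t ^ (q ^ 4 + q ^ 2 + 1) = 1 := by
    rw [htdef, ← pow_mul, mul_comm, pow_mul, inv_pow, hsN, inv_one, one_pow]
  refine ⟨frob e * gl e (Units.mk0 t ht0), ⟨h.mem_GU_iff.2 ?_, ?_⟩, fun a => ?_⟩
  · have e1 : ((P * mat e t).map σ)ᵀ * (P * mat e t) = 1 := by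
      rw [conjT_mul, ← hτ, mul_assoc, ← mul_assoc _ P, ← hS, ← hs, ← map_mul, ← map_mul,
        tau_eq_pow h hF e hτ, show t ^ q ^ 3 * (s * t) = t ^ (q ^ 3 + 1) * s by ring, ht1, map_one]
    have e2 := congrArg (fun X => X.map σ) e1
    simp only [Matrix.map_mul, Matrix.map_one σ (map_zero σ) (map_one σ), Matrix.transpose_map] at e2
    rw [← Matrix.map_mul, ← Matrix.map_mul, show ((P * mat e t).map σ).map σ = P * mat e t from
      Matrix.ext fun i j => h.involutive _] at e2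
    exact e2
  · refine MonoidHom.mem_ker.2 (Units.ext ?_)
    show (P * mat e t).det = 1
    rw [Matrix.det_mul, hPdet, one_mul, det_mat]
    exact (algebraMap F L).injective (by rw [norm_pow_eq hF e, ht2, map_one])
  · show P * mat e t * mat e a = mat e (a ^ q ^ 2) * (P * mat e t)
    rw [mul_assoc, ← map_mul, mul_comm t a, map_mul, ← mul_assoc, hPa, mul_assoc]

end CfsgLib.SUThree.Singer
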